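import Mathlib.LinearAlgebra.Matrix.ToLin
import Mathlib.LinearAlgebra.Basis.VectorSpace
import Mathlib.LinearAlgebra.LinearIndependent.Lemmas
import Mathlib.Analysis.Normed.Module.FiniteDimension
import Mathlib.RingTheory.Localization.Integer

/-!
Rational polyhedral cones inside nonnegative orthants.
-/

set_option autoImplicit false

open Finset Function

namespace Groth.Agent.FanLib

variable {ι κ μ : Type} [Fintype ι] [DecidableEq ι]

/-- The real extension of an integer linear map. -/
noncomputable def rlin (A : (ι → ℤ) →ₗ[ℤ] (κ → ℤ)) : (ι → ℝ) →ₗ[ℝ] (κ → ℝ) where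
  toFun v := fun j => ∑ i, (A (Pi.single i 1) j : ℝ) * v i
  map_add' v w := by ext j; simp [mul_add, sum_add_distrib]
  map_smul' c v := by
    ext j
    simp [mul_sum]
    exact sum_congr rfl fun i _ => by ring

lemma rlin_apply (A : (ι → ℤ) →ₗ[ℤ] (κ → ℤ)) (v : ι → ℝ) (j : κ) :
    rlin A v j = ∑ i, (A (Pi.single i 1) j : ℝ) * v i := rfl

lemma expand (A : (ι → ℤ) →ₗ[ℤ] (κ → ℤ)) (w : ι → ℤ) (j : κ) :
    A w j = ∑ i, A (Pi.single i 1) j * w i := by
  rw [LinearMap.pi_apply_eq_sum_univ A w]
  simp only [Finset.sum_apply, Pi.smul_apply, smul_eq_mul]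
  refine sum_congr rfl fun i _ => ?_
  rw [mul_comm]
  have : (fun j => if i = j then (1 : ℤ) else 0) = Pi.single i 1 := by
    funext l
    simp [Pi.single_apply, eq_comm]
  rw [this]

/-- Casting an integer vector to a real one. -/
def castV (w : κ → ℤ) : κ → ℝ := fun j => (w j : ℝ)

omit [Fintype ι] [DecidableEq ι] in
@[simp] lemma castV_eq_zero {w : κ → ℤ} : castV w = 0 ↔ w = 0 := by
  simp [funext_iff, castV]

lemma rlin_cast (A : (ι → ℤ) →ₗ[ℤ] (κ → ℤ)) (w : ι → ℤ) : rlin A (castV w) = castV (A w) := by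
  ext j
  rw [rlin_apply, castV, expand A w j]
  push_cast
  rfl

lemma rlin_comp [Fintype κ] [DecidableEq κ] (A : (ι → ℤ) →ₗ[ℤ] (κ → ℤ))
    (B : (κ → ℤ) →ₗ[ℤ] (μ → ℤ)) (v : ι → ℝ) : rlin (B.comp A) v = rlin B (rlin A v) := by
  ext j
  simp only [rlin_apply, LinearMap.comp_apply, mul_sum]
  rw [sum_comm]
  refine sum_congr rfl fun i _ => ?_
  rw [expand B (A (Pi.single i 1)) j]
  push_cast
  rw [sum_mul]
  exact sum_congr rfl fun l _ => by ring

lemma rlin_injective [Fintype κ] [DecidableEq κ] {A : (ι → ℤ) →ₗ[ℤ] (κ → ℤ)}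
    (hA : Injective A) : Injective (rlin A) := by
  let M : Matrix κ ι ℚ := Matrix.of fun j i => (A (Pi.single i 1) j : ℚ)
  have hM : LinearMap.ker (Matrix.toLin' M) = ⊥ := by
    rw [LinearMap.ker_eq_bot']
    intro q hq
    obtain ⟨b, hb⟩ := IsLocalization.exist_integer_multiples_of_finite (nonZeroDivisors ℤ) q
    choose w hw using hb
    have hw' : ∀ i, (w i : ℚ) = ((b : ℤ) : ℚ) * q i := fun i => by
      simpa using hw i
    have h0 : A w = 0 := by
      funext j
      have hj : (M.mulVec q) j = 0 := by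
        rw [Matrix.toLin'_apply] at hq
        exact congrFun hq j
      have : (A w j : ℚ) = ((b : ℤ) : ℚ) * M.mulVec q j := by
        rw [expand A w j, Matrix.mulVec, dotProduct, mul_sum]
        push_cast
        exact sum_congr rfl fun i _ => by rw [hw']; simp only [M, Matrix.of_apply]; ring
      rw [hj, mul_zero] at this
      simpa using this
    have hw0 : w = 0 := hA (by rw [h0, map_zero])
    funext i
    have hb0 : ((b : ℤ) : ℚ) ≠ 0 := by
      exact_mod_cast nonZeroDivisors.coe_ne_zero b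
    have := hw' i
    simp [hw0] at this
    simpa [hb0] using this
  obtain ⟨g, hg⟩ := (Matrix.toLin' M).exists_leftInverse_of_injective hM
  have hB : LinearMap.toMatrix' g * M = 1 := by
    rw [← LinearMap.toMatrix'_toLin' M, ← LinearMap.toMatrix'_comp, hg, LinearMap.toMatrix'_id]
  intro v v' hv
  have e : ∀ u : ι → ℝ, rlin A u = (M.map (algebraMap ℚ ℝ)).mulVec u := fun u => by
    ext j
    simp [rlin_apply, Matrix.mulVec, dotProduct, M]
  rw [e, e] at hv
  have := congrArg ((LinearMap.toMatrix' g).map (algebraMap ℚ ℝ)).mulVec hv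
  rwa [Matrix.mulVec_mulVec, Matrix.mulVec_mulVec, ← Matrix.map_mul, hB,
    Matrix.map_one _ (map_zero _) (map_one _), Matrix.one_mulVec, Matrix.one_mulVec] at this

/-- Conic Carathéodory: keep a linearly independent subfamily with positive coefficients. -/
lemma exists_indep_rep {α E : Type*} [AddCommGroup E] [Module ℝ E] [DecidableEq α] (v : α → E)
    (s : Finset α) (c : α → ℝ) (hc : ∀ a ∈ s, 0 ≤ c a) :
    ∃ (t : Finset α) (d : α → ℝ), t ⊆ s ∧ (∀ a ∈ t, 0 < d a) ∧
      LinearIndepOn ℝ v (t : Set α) ∧ ∑ a ∈ t, d a • v a = ∑ a ∈ s, c a • v a := by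
  induction h : s.card using Nat.strong_induction_on generalizing s c with
  | _ N ih =>
    by_cases hz : ∃ a ∈ s, c a = 0
    · obtain ⟨a, ha, h0⟩ := hz
      obtain ⟨t, d, h1, h2, h3, h4⟩ := ih (s.erase a).card
        (h ▸ card_lt_card (erase_ssubset ha)) (s.erase a) c
        (fun b hb => hc b (mem_of_mem_erase hb)) rfl
      refine ⟨t, d, h1.trans (erase_subset _ _), h2, h3, ?_⟩
      rw [h4, ← add_sum_erase s _ ha, h0, zero_smul, zero_add]
    · push Not at hz
      by_cases hi : LinearIndepOn ℝ v (s : Set α)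
      · exact ⟨s, c, subset_refl _, fun a ha => lt_of_le_of_ne (hc a ha) (hz a ha).symm, hi, rfl⟩
      · obtain ⟨g, hg, a₁, ha₁, hpos⟩ : ∃ g : α → ℝ, ∑ a ∈ s, g a • v a = 0 ∧
            ∃ a ∈ s, 0 < g a := by
          rw [linearIndepOn_finset_iff] at hi
          push Not at hi
          obtain ⟨g, hg, a, ha, hne⟩ := hi
          rcases lt_or_gt_of_ne hne with hlt | hgt
          · exact ⟨-g, by simp [hg], a, ha, by simpa using hlt⟩
          · exact ⟨g, hg, a, ha, hgt⟩
        obtain ⟨a₀, ha₀, hmin⟩ := (s.filter fun a => 0 < g a).exists_min_image (fun a => c a / g a)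
          ⟨a₁, mem_filter.2 ⟨ha₁, hpos⟩⟩
        rw [mem_filter] at ha₀
        let r := c a₀ / g a₀
        have hr : 0 ≤ r := div_nonneg (hc a₀ ha₀.1) ha₀.2.le
        have hc' : ∀ a ∈ s, 0 ≤ c a - r * g a := fun a ha => by
          by_cases hga : 0 < g a
          · have := hmin a (mem_filter.2 ⟨ha, hga⟩)
            rw [le_div_iff₀ hga] at this
            simp only [r]
            linarith
          · have := mul_nonpos_of_nonneg_of_nonpos hr (not_lt.1 hga)
            have := hc a ha
            linarith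
        have h0 : c a₀ - r * g a₀ = 0 := by simp [r, ha₀.2.ne']
        obtain ⟨t, d, h1, h2, h3, h4⟩ := ih (s.erase a₀).card
          (h ▸ card_lt_card (erase_ssubset ha₀.1)) (s.erase a₀) (fun a => c a - r * g a)
          (fun b hb => hc' b (mem_of_mem_erase hb)) rfl
        refine ⟨t, d, h1.trans (erase_subset _ _), h2, h3, ?_⟩
        rw [h4]
        have e := add_sum_erase s (fun a => (c a - r * g a) • v a) ha₀.1
        simp only [h0, zero_smul, zero_add] at e
        rw [e]
        simp only [sub_smul, mul_smul, sum_sub_distrib, ← smul_sum, hg, smul_zero, sub_zero]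

section Kernel

variable [Fintype κ] [DecidableEq κ]

/-- The integer map whose kernel is the vectors of `ker A` supported in `S`. -/
def supportMap (A : (ι → ℤ) →ₗ[ℤ] (κ → ℤ)) (S : Finset ι) : (ι → ℤ) →ₗ[ℤ] (κ ⊕ ι → ℤ) where
  toFun w := Sum.elim (A w) (fun i => if i ∈ S then 0 else w i)
  map_add' v w := by ext (j | i) <;> simp <;> split <;> simp
  map_smul' c v := by
    ext (j | i)
    · exact congrFun (map_smul A c v) j
    · simp

lemma rlin_supportMap_eq_zero (A : (ι → ℤ) →ₗ[ℤ] (κ → ℤ)) (S : Finset ι) {x : ι → ℝ}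
    (hx : rlin A x = 0) (hS : ∀ i, i ∉ S → x i = 0) : rlin (supportMap A S) x = 0 := by
  ext (j | i)
  · exact congrFun hx j
  · rw [rlin_apply]
    refine sum_eq_zero fun l _ => ?_
    by_cases hl : l ∈ S
    · by_cases hi : i ∈ S
      · simp [supportMap, hi]
      · have : i ≠ l := fun e => hi (e ▸ hl)
        simp [supportMap, hi, this]
    · simp [hS l hl]

lemma exists_int_kernel (A : (ι → ℤ) →ₗ[ℤ] (κ → ℤ)) (S : Finset ι) {x : ι → ℝ}
    (hx : rlin A x = 0) (hne : x ≠ 0) (hS : ∀ i, i ∉ S → x i = 0) :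
    ∃ w : ι → ℤ, w ≠ 0 ∧ A w = 0 ∧ ∀ i, i ∉ S → w i = 0 := by
  by_contra hcon
  push Not at hcon
  refine hne (rlin_injective (A := supportMap A S) ?_
    (by rw [rlin_supportMap_eq_zero A S hx hS, map_zero]))
  rw [injective_iff_map_eq_zero]
  intro w hw
  by_contra hw0
  obtain ⟨i, hi, hwi⟩ := hcon w hw0 (funext fun j => congrFun hw (Sum.inl j))
  exact hwi (by simpa [supportMap, hi] using congrFun hw (Sum.inr i))

/-- An integral point in the relative interior of the face with support `S` of the kernel cone. -/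
def IsFacePt (A : (ι → ℤ) →ₗ[ℤ] (κ → ℤ)) (S : Finset ι) (e : ι → ℤ) : Prop :=
  A e = 0 ∧ (∀ i ∈ S, 0 < e i) ∧ ∀ i, i ∉ S → e i = 0

open scoped Classical in
/-- Finitely many integral vectors of the kernel cone. -/
noncomputable def kerGens (A : (ι → ℤ) →ₗ[ℤ] (κ → ℤ)) : Finset (ι → ℤ) :=
  univ.image fun S : Finset ι => if h : ∃ e, IsFacePt A S e then h.choose else 0

lemma kerGens_prop (A : (ι → ℤ) →ₗ[ℤ] (κ → ℤ)) {e : ι → ℤ} (he : e ∈ kerGens A) :
    A e = 0 ∧ ∀ i, 0 ≤ e i := by
  classical
  simp only [kerGens, mem_image, mem_univ, true_and] at he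
  obtain ⟨S, rfl⟩ := he
  split
  next h =>
    refine ⟨h.choose_spec.1, fun i => ?_⟩
    by_cases hi : i ∈ S
    · exact (h.choose_spec.2.1 i hi).le
    · exact (h.choose_spec.2.2 i hi).ge
  next h => simp

/-- Membership in the cone spanned by a finite set of integer vectors. -/
def InCone (E : Finset (κ → ℤ)) (x : κ → ℝ) : Prop :=
  ∃ c : (κ → ℤ) → ℝ, (∀ e ∈ E, 0 ≤ c e) ∧ x = ∑ e ∈ E, c e • castV e

omit [Fintype ι] [DecidableEq ι] [Fintype κ] [DecidableEq κ] in
lemma InCone.add {E : Finset (κ → ℤ)} {x y : κ → ℝ} (hx : InCone E x) (hy : InCone E y) :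
    InCone E (x + y) := by
  obtain ⟨c, hc, rfl⟩ := hx
  obtain ⟨d, hd, rfl⟩ := hy
  exact ⟨c + d, fun e he => add_nonneg (hc e he) (hd e he), by simp [add_smul, sum_add_distrib]⟩

omit [Fintype ι] [DecidableEq ι] [Fintype κ] [DecidableEq κ] in
lemma InCone.smul {E : Finset (κ → ℤ)} {x : κ → ℝ} (hx : InCone E x) {r : ℝ} (hr : 0 ≤ r) :
    InCone E (r • x) := by
  obtain ⟨c, hc, rfl⟩ := hx
  exact ⟨r • c, fun e he => mul_nonneg hr (hc e he), by simp [smul_sum, mul_smul]⟩

omit [Fintype ι] [DecidableEq ι] [Fintype κ] in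
lemma inCone_self {E : Finset (κ → ℤ)} {e : κ → ℤ} (he : e ∈ E) [DecidableEq (κ → ℤ)] :
    InCone E (castV e) :=
  ⟨fun f => if f = e then 1 else 0, fun f _ => by dsimp only; split <;> norm_num, by simp [he]⟩

open scoped Classical in
lemma inCone_kerGens (A : (ι → ℤ) →ₗ[ℤ] (κ → ℤ)) (x : ι → ℝ) (hx0 : ∀ i, 0 ≤ x i)
    (hx : rlin A x = 0) : InCone (kerGens A) x := by
  induction h : (univ.filter fun i => x i ≠ 0).card using Nat.strong_induction_on generalizing x with
  | _ N ih =>
    by_cases hz : x = 0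
    · exact ⟨0, fun _ _ => le_rfl, by simp [hz]⟩
    set S := univ.filter fun i => x i ≠ 0 with hSdef
    have hmem : ∀ i, i ∈ S ↔ 0 < x i := fun i => by
      simp [S, lt_iff_le_and_ne, hx0 i, eq_comm]
    have hout : ∀ i, i ∉ S → x i = 0 := fun i hi => by simpa [S] using hi
    have hSne : S.Nonempty := by
      obtain ⟨i, hi⟩ := Function.ne_iff.1 hz
      exact ⟨i, by simpa [S] using hi⟩
    by_cases hline : ∀ w : ι → ℝ, rlin A w = 0 → (∀ i, i ∉ S → w i = 0) → ∃ r : ℝ, w = r • x
    · obtain ⟨w, hw0, hwA, hwS⟩ := exists_int_kernel A S hx hz hout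
      have hwA' : rlin A (castV w) = 0 := by rw [rlin_cast, hwA]; ext; simp [castV]
      obtain ⟨r, hr⟩ := hline (castV w) hwA' (fun i hi => by simp [castV, hwS i hi])
      have hr0 : r ≠ 0 := by
        rintro rfl
        simp at hr
        exact hw0 hr
      obtain ⟨e, he⟩ : ∃ e, IsFacePt A S e := by
        rcases lt_or_gt_of_ne hr0 with hneg | hpos
        · refine ⟨-w, by simp [hwA], fun i hi => ?_, fun i hi => by simp [hwS i hi]⟩
          have : (w i : ℝ) = r * x i := congrFun hr i
          have hlt : (w i : ℝ) < 0 := this ▸ mul_neg_of_neg_of_pos hneg ((hmem i).1 hi)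
          simpa using hlt
        · refine ⟨w, hwA, fun i hi => ?_, hwS⟩
          have : (w i : ℝ) = r * x i := congrFun hr i
          have hlt : (0 : ℝ) < (w i : ℝ) := this ▸ mul_pos hpos ((hmem i).1 hi)
          exact_mod_cast hlt
      have hex : ∃ e, IsFacePt A S e := ⟨e, he⟩
      set e' := hex.choose with he'
      have he'm : e' ∈ kerGens A := mem_image.2 ⟨S, mem_univ _, by rw [dif_pos hex]⟩
      obtain ⟨r', hr'⟩ := hline (castV e')
        (by rw [rlin_cast, hex.choose_spec.1]; ext; simp [castV])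
        (fun i hi => by simp [castV, e', hex.choose_spec.2.2 i hi])
      obtain ⟨i₀, hi₀⟩ := hSne
      have h1 : (e' i₀ : ℝ) = r' * x i₀ := congrFun hr' i₀
      have hr'0 : 0 < r' := by
        have : (0 : ℝ) < e' i₀ := by exact_mod_cast hex.choose_spec.2.1 i₀ hi₀
        rw [h1] at this
        exact pos_of_mul_pos_left this (hx0 i₀)
      have : x = r'⁻¹ • castV e' := by rw [hr', smul_smul, inv_mul_cancel₀ hr'0.ne', one_smul]
      rw [this]
      exact (inCone_self he'm).smul (inv_nonneg.2 hr'0.le)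
    · push Not at hline
      obtain ⟨w, hwA, hwS, hwne⟩ := hline
      obtain ⟨i₁, hi₁, hmax⟩ := S.exists_max_image (fun i => w i / x i) hSne
      obtain ⟨i₂, hi₂, hmin⟩ := S.exists_min_image (fun i => w i / x i) hSne
      set M := w i₁ / x i₁ with hM
      set m := w i₂ / x i₂ with hm
      have hmM : m < M := by
        refine lt_of_le_of_ne (hmin i₁ hi₁) fun e => hwne m ?_
        ext i
        by_cases hi : i ∈ S
        · have h1 := hmax i hi
          have h2 := hmin i hi
          have : w i / x i = m := le_antisymm (h1.trans_eq e.symm) h2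
          rw [div_eq_iff ((hmem i).1 hi).ne'] at this
          simpa using this
        · simp [hout i hi, hwS i hi]
      let u₁ := w - m • x
      let u₂ := M • x - w
      have hsum : x = (M - m)⁻¹ • u₁ + (M - m)⁻¹ • u₂ := by
        have h' : u₁ + u₂ = (M - m) • x := by simp [u₁, u₂, sub_smul]
        rw [← smul_add, h', smul_smul, inv_mul_cancel₀ (sub_ne_zero.2 hmM.ne'), one_smul]
      have hu₁ : InCone (kerGens A) u₁ := by
        refine ih _ (h ▸ card_lt_card ?_) u₁ (fun i => ?_) (by simp [u₁, map_sub, hwA, hx]) rfl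
        · by_cases hi : i ∈ S
          · have := (le_div_iff₀ ((hmem i).1 hi)).1 (hmin i hi)
            simp [u₁]; linarith
          · simp [u₁, hout i hi, hwS i hi]
        · rw [ssubset_iff_of_subset]
          · exact ⟨i₂, hi₂, by simp [u₁, m, ((hmem i₂).1 hi₂).ne']⟩
          · intro i hi
            by_contra hiS
            simp [u₁, hout i hiS, hwS i hiS] at hi
      have hu₂ : InCone (kerGens A) u₂ := by
        refine ih _ (h ▸ card_lt_card ?_) u₂ (fun i => ?_) (by simp [u₂, map_sub, hwA, hx]) rfl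
        · by_cases hi : i ∈ S
          · have := (div_le_iff₀ ((hmem i).1 hi)).1 (hmax i hi)
            simp [u₂]; linarith
          · simp [u₂, hout i hi, hwS i hi]
        · rw [ssubset_iff_of_subset]
          · exact ⟨i₁, hi₁, by simp [u₂, M, ((hmem i₁).1 hi₁).ne']⟩
          · intro i hi
            by_contra hiS
            simp [u₂, hout i hiS, hwS i hiS] at hi
      have hpos : 0 ≤ (M - m)⁻¹ := inv_nonneg.2 (sub_nonneg.2 hmM.le)
      rw [hsum]
      exact (hu₁.smul hpos).add (hu₂.smul hpos)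

end Kernel

/-- The map with prescribed columns. -/
def colMap {l : ℕ} (col : Fin l → κ → ℤ) : (Fin l → ℤ) →ₗ[ℤ] (κ → ℤ) where
  toFun w := fun j => ∑ i, w i * col i j
  map_add' v w := by ext j; simp [add_mul, sum_add_distrib]
  map_smul' c v := by ext j; simp [mul_sum, mul_assoc]

lemma colMap_single {l : ℕ} (col : Fin l → κ → ℤ) (i : Fin l) :
    colMap col (Pi.single i 1) = col i := by
  ext j
  simp [colMap, Pi.single_apply]

lemma rlin_colMap {l : ℕ} (col : Fin l → κ → ℤ) (z : Fin l → ℝ) :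
    rlin (colMap col) z = ∑ i, z i • castV (col i) := by
  ext j
  simp only [rlin_apply, colMap_single, Finset.sum_apply, Pi.smul_apply, castV, smul_eq_mul]
  exact sum_congr rfl fun i _ => mul_comm _ _

/-- A simplicial piece: a positive number of columns and their map. -/
abbrev Piece (κ : Type) := Σ l : ℕ+, (Fin l → ℤ) →ₗ[ℤ] (κ → ℤ)

/-- A cone spanned by finitely many integer vectors is covered by finitely many simplicial ones. -/
lemma exists_pieces (E : Finset (κ → ℤ)) :
    ∃ s : Finset (Piece κ), (∀ p ∈ s, Injective (rlin p.2) ∧ ∀ i, p.2 (Pi.single i 1) ∈ E) ∧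
      ∀ x, InCone E x → x ≠ 0 → ∃ p ∈ s, ∃ z : Fin p.1 → ℝ, (∀ i, 0 < z i) ∧ x = rlin p.2 z := by
  classical
  let T := E.powerset.filter fun t : Finset (κ → ℤ) => t.Nonempty ∧ LinearIndepOn ℝ (castV : (κ → ℤ) → _) (t : Set _)
  let mk : ∀ t : Finset (κ → ℤ), t.Nonempty → Piece κ := fun t ht =>
    ⟨⟨t.card, ht.card_pos⟩, colMap fun i => ((t.equivFin.symm i : t) : κ → ℤ)⟩
  refine ⟨T.attach.image fun t => mk t.1 (mem_filter.1 t.2).2.1, fun p hp => ?_, fun x hx hne => ?_⟩
  · obtain ⟨⟨t, ht⟩, -, rfl⟩ := mem_image.1 hp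
    obtain ⟨htE, htne, hti⟩ := mem_filter.1 ht
    refine ⟨?_, fun i => ?_⟩
    · have hli : LinearIndependent ℝ fun i : Fin t.card =>
          castV (((t.equivFin.symm i : t) : κ → ℤ)) :=
        LinearIndependent.comp hti.linearIndependent _ t.equivFin.symm.injective
      rw [injective_iff_map_eq_zero]
      intro z hz
      simp only [mk, rlin_colMap] at hz
      exact funext (Fintype.linearIndependent_iff.1 hli z hz)
    · simp only [mk, colMap_single]
      exact mem_powerset.1 htE (Subtype.coe_prop _)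
  · obtain ⟨c, hc, rfl⟩ := hx
    obtain ⟨t, d, htE, hd, hi, hsum⟩ := exists_indep_rep (castV : (κ → ℤ) → _) E c hc
    have htne : t.Nonempty := by
      by_contra h0
      rw [not_nonempty_iff_eq_empty] at h0
      subst h0
      exact hne (by simpa using hsum.symm)
    have htT : t ∈ T := mem_filter.2 ⟨mem_powerset.2 htE, htne, hi⟩
    refine ⟨_, mem_image.2 ⟨⟨t, htT⟩, mem_attach _ _, rfl⟩, fun i => d (t.equivFin.symm i : t),
      fun i => hd _ (Subtype.coe_prop _), ?_⟩
    simp only [mk, rlin_colMap]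
    rw [← hsum, ← sum_coe_sort t]
    exact (Equiv.sum_comp t.equivFin.symm fun a : t => d a • castV (a : κ → ℤ)).symm

/-- The image of a closed subset of the closed orthant under an injective linear map is closed. -/
lemma isClosedMap_rlin [Fintype κ] {A : (ι → ℤ) →ₗ[ℤ] (κ → ℤ)} (hA : Injective (rlin A)) :
    IsClosedMap (rlin A) :=
  (LinearMap.isClosedEmbedding_of_injective (LinearMap.ker_eq_bot.2 hA)).isClosedMap

lemma continuous_rlin (A : (ι → ℤ) →ₗ[ℤ] (κ → ℤ)) : Continuous (rlin A) :=
  LinearMap.continuous_of_finiteDimensional _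

/-- Finitely generated cones are closed. -/
lemma isClosed_inCone [Fintype κ] (E : Finset (κ → ℤ)) : IsClosed {x | InCone E x} := by
  obtain ⟨s, hs, hcov⟩ := exists_pieces E
  have : {x | InCone E x} =
      {0} ∪ ⋃ p ∈ (s : Set (Piece κ)), rlin p.2 '' {z | ∀ i, 0 ≤ z i} := by
    ext x
    constructor
    · intro hx
      by_cases h0 : x = 0
      · exact Or.inl h0
      · obtain ⟨p, hp, z, hz, rfl⟩ := hcov x hx h0
        exact Or.inr (Set.mem_biUnion hp ⟨z, fun i => (hz i).le, rfl⟩)
    · rintro (rfl | hx)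
      · exact ⟨0, fun _ _ => le_rfl, by simp⟩
      · obtain ⟨p, hp, z, hz, rfl⟩ := Set.mem_iUnion₂.1 hx
        have h := fun i => (hs p hp).2 i
        classical
        have hsum : rlin p.2 z = ∑ i, z i • castV (p.2 (Pi.single i 1)) := by
          ext j
          simp only [rlin_apply, Finset.sum_apply, Pi.smul_apply, castV, smul_eq_mul]
          exact sum_congr rfl fun i _ => mul_comm _ _
        show InCone E _
        rw [hsum]
        exact sum_induction _ _ (fun _ _ => InCone.add) ⟨0, fun _ _ => le_rfl, by simp⟩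
          fun i _ => (inCone_self (h i)).smul (hz i)
  rw [this]
  refine isClosed_singleton.union (s.finite_toSet.isClosed_biUnion fun p hp => ?_)
  refine isClosedMap_rlin (hs p hp).1 _ ?_
  rw [Set.setOf_forall]
  exact isClosed_iInter fun i => isClosed_le continuous_const (continuous_apply i)

end Groth.Agent.FanLib
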