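import Groth.Prelude.Def_W4c6instabfans3Fan
import Groth.Agent.FanLib.Cone

/-!
Formal fans: equality of points of the projective realization, bounded maps, topology.
-/

set_option autoImplicit false

universe u

open CategoryTheory Opposite Instab Instab.Fan Function

namespace Groth.Agent.FanLib

variable {κ : Type} {k k' l m n n' : ICone}

lemma homExt {φ φ' : k ⟶ n} (h : ∀ w, φ.toLin w = φ'.toLin w) : φ = φ' :=
  ICone.Hom.ext (LinearMap.ext h)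

lemma realMap_eq (φ : k ⟶ n) (v : Fin k.dim → ℝ) : φ.realMap v = rlin φ.toLin v := rfl

lemma realMap_comp (χ : l ⟶ k) (φ : k ⟶ n) (z : Fin l.dim → ℝ) :
    (χ ≫ φ).realMap z = φ.realMap (χ.realMap z) := rlin_comp χ.toLin φ.toLin z

lemma realMap_id (v : Fin n.dim → ℝ) : (𝟙 n : n ⟶ n).realMap v = v := by
  ext j
  show ∑ i, ((Pi.single i 1 : Fin n.dim → ℤ) j : ℝ) * v i = v j
  rw [Finset.sum_eq_single j (fun i _ hij => by simp [hij.symm])
    (fun h => absurd (Finset.mem_univ j) h)]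
  simp

lemma realMap_smul (φ : k ⟶ n) (c : ℝ) (v : Fin k.dim → ℝ) :
    φ.realMap (c • v) = c • φ.realMap v := map_smul (rlin φ.toLin) c v

lemma realMap_nonneg (φ : k ⟶ n) {v : Fin k.dim → ℝ} (hv : ∀ i, 0 ≤ v i) (j : Fin n.dim) :
    0 ≤ φ.realMap v j := by
  refine Finset.sum_nonneg fun i _ => mul_nonneg ?_ (hv i)
  exact_mod_cast φ.nonneg _ (fun a => by by_cases h : a = i <;> simp [h]) j

lemma realMap_injective (φ : k ⟶ n) : Injective (rlin φ.toLin) := rlin_injective φ.injective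

lemma realMap_ne_zero (φ : k ⟶ n) {v : Fin k.dim → ℝ} (hv : v ≠ 0) : φ.realMap v ≠ 0 :=
  fun h => hv (realMap_injective φ (by rw [map_zero]; exact h))

/-- The image of a point of an orthant under a cone morphism. -/
def omap (φ : k ⟶ n) (v : Orth k) : Orth n :=
  ⟨φ.realMap v.1, realMap_nonneg φ v.2.1, realMap_ne_zero φ v.2.2⟩

/-- Positive rescaling of a point of an orthant. -/
def oscale (c : ℝ) (hc : 0 < c) (v : Orth n) : Orth n :=
  ⟨c • v.1, fun i => mul_nonneg hc.le (v.2.1 i), smul_ne_zero hc.ne' v.2.2⟩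

section Pieces

variable [Fintype κ] [DecidableEq κ]

open scoped Classical in
/-- The fibre product of two injective integer maps on orthants is covered by finitely many
simplicial cones. -/
lemma exists_common_pieces (φ : (Fin k.dim → ℤ) →ₗ[ℤ] (κ → ℤ)) (hφ : Injective φ)
    (φ' : (Fin k'.dim → ℤ) →ₗ[ℤ] (κ → ℤ)) (hφ' : Injective φ') :
    ∃ s : Finset (Σ l : ICone, (l ⟶ k) × (l ⟶ k')),
      (∀ e ∈ s, φ.comp e.2.1.toLin = φ'.comp e.2.2.toLin) ∧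
      ∀ (y : Fin k.dim → ℝ) (y' : Fin k'.dim → ℝ), (∀ i, 0 ≤ y i) → (∀ i, 0 ≤ y' i) →
        y ≠ 0 → rlin φ y = rlin φ' y' →
        ∃ e ∈ s, ∃ z : Orth e.1, y = e.2.1.realMap z.1 ∧ y' = e.2.2.realMap z.1 := by
  let pL : (Fin k.dim ⊕ Fin k'.dim → ℤ) →ₗ[ℤ] (Fin k.dim → ℤ) := LinearMap.funLeft ℤ ℤ Sum.inl
  let pR : (Fin k.dim ⊕ Fin k'.dim → ℤ) →ₗ[ℤ] (Fin k'.dim → ℤ) := LinearMap.funLeft ℤ ℤ Sum.inr
  have hL : ∀ x, rlin pL x = fun i => x (Sum.inl i) := fun x => by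
    ext i
    rw [rlin_apply, Finset.sum_eq_single (Sum.inl i) (fun b _ hb => by
      simp [pL, LinearMap.funLeft, hb.symm]) (fun h => absurd (Finset.mem_univ _) h)]
    simp [pL, LinearMap.funLeft]
  have hR : ∀ x, rlin pR x = fun i => x (Sum.inr i) := fun x => by
    ext i
    rw [rlin_apply, Finset.sum_eq_single (Sum.inr i) (fun b _ hb => by
      simp [pR, LinearMap.funLeft, hb.symm]) (fun h => absurd (Finset.mem_univ _) h)]
    simp [pR, LinearMap.funLeft]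
  let D := φ.comp pL - φ'.comp pR
  have hD : ∀ x, rlin D x = rlin φ (rlin pL x) - rlin φ' (rlin pR x) := fun x => by
    rw [← rlin_comp, ← rlin_comp]
    ext j
    simp [rlin_apply, D, sub_mul, Finset.sum_sub_distrib]
  obtain ⟨s, hs, hcov⟩ := exists_pieces (kerGens D)
  have hcol : ∀ p ∈ s, ∀ w, φ (pL (p.2 w)) = φ' (pR (p.2 w)) := fun p hp w => by
    rw [← sub_eq_zero]
    show D (p.2 w) = 0
    rw [LinearMap.pi_apply_eq_sum_univ p.2 w, map_sum]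
    refine Finset.sum_eq_zero fun i _ => ?_
    have : (fun j => if i = j then (1 : ℤ) else 0) = Pi.single i 1 := by
      funext a
      simp [Pi.single_apply, eq_comm]
    rw [map_smul, this, (kerGens_prop D ((hs p hp).2 i)).1, smul_zero]
  have hnn : ∀ p ∈ s, ∀ w : Fin p.1 → ℤ, (∀ i, 0 ≤ w i) → ∀ a, 0 ≤ p.2 w a := fun p hp w hw a => by
    rw [expand p.2 w a]
    exact Finset.sum_nonneg fun i _ => mul_nonneg ((kerGens_prop D ((hs p hp).2 i)).2 a) (hw i)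
  have hpinj : ∀ p ∈ s, Injective p.2 := fun p hp w w' h => by
    have := (hs p hp).1 (show rlin p.2 (castV w) = rlin p.2 (castV w') by rw [rlin_cast, rlin_cast, h])
    funext i
    exact Int.cast_injective (congrFun this i : (w i : ℝ) = w' i)
  have hψ : ∀ p ∈ s, Injective (pL.comp p.2) := fun p hp => by
    rw [injective_iff_map_eq_zero]
    intro w hw
    have h1 : pL (p.2 w) = 0 := hw
    have h2 : pR (p.2 w) = 0 := hφ' (by rw [← hcol p hp w, h1, map_zero, map_zero])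
    refine hpinj p hp ?_
    rw [map_zero]
    ext (i | i)
    · exact congrFun h1 i
    · exact congrFun h2 i
  have hψ' : ∀ p ∈ s, Injective (pR.comp p.2) := fun p hp => by
    rw [injective_iff_map_eq_zero]
    intro w hw
    have h1 : pR (p.2 w) = 0 := hw
    have h2 : pL (p.2 w) = 0 := hφ (by rw [hcol p hp w, h1, map_zero, map_zero])
    refine hpinj p hp ?_
    rw [map_zero]
    ext (i | i)
    · exact congrFun h2 i
    · exact congrFun h1 i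
  let mk : s → Σ l : ICone, (l ⟶ k) × (l ⟶ k') := fun p =>
    ⟨⟨p.1.1⟩, ⟨pL.comp p.1.2, hψ p.1 p.2, fun w hw j => hnn p.1 p.2 w hw _⟩,
      ⟨pR.comp p.1.2, hψ' p.1 p.2, fun w hw j => hnn p.1 p.2 w hw _⟩⟩
  refine ⟨s.attach.image mk, fun e he => ?_, fun y y' hy hy' hne heq => ?_⟩
  · obtain ⟨p, -, rfl⟩ := Finset.mem_image.1 he
    exact LinearMap.ext (hcol p.1 p.2)
  · have hx : rlin D (Sum.elim y y') = 0 := by
      rw [hD, hL, hR]
      simpa using sub_eq_zero.2 heq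
    have hx0 : Sum.elim y y' ≠ 0 := fun h => hne (funext fun i => congrFun h (Sum.inl i))
    obtain ⟨p, hp, z, hz, hxz⟩ := hcov _
      (inCone_kerGens D _ (by rintro (i | i) <;> simp [hy, hy']) hx) hx0
    refine ⟨mk ⟨p, hp⟩, Finset.mem_image.2 ⟨⟨p, hp⟩, Finset.mem_attach _ _, rfl⟩,
      ⟨z, fun i => (hz i).le, fun h => (hz ⟨0, p.1.pos⟩).ne' (congrFun h _)⟩, ?_, ?_⟩
    · show y = rlin (pL.comp p.2) z
      rw [rlin_comp, ← hxz, hL]
      rfl
    · show y' = rlin (pR.comp p.2) z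
      rw [rlin_comp, ← hxz, hR]
      rfl

end Pieces

variable {F G : Fan.{u}}

lemma map_comp_apply (χ : l ⟶ k) (φ : k ⟶ n) (σ : F.obj (op n)) :
    F.map (χ ≫ φ).op σ = F.map χ.op (F.map φ.op σ) := by
  simp

/-- Two points of the disjoint union lie in a common sub-cone. -/
def Common {n₁ n₂ : ICone} (σ₁ : F.obj (op n₁)) (v₁ : Orth n₁) (σ₂ : F.obj (op n₂))
    (v₂ : Orth n₂) : Prop :=
  ∃ (k : ICone) (φ₁ : k ⟶ n₁) (φ₂ : k ⟶ n₂) (y : Orth k) (c₁ c₂ : ℝ),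
    F.map φ₁.op σ₁ = F.map φ₂.op σ₂ ∧ 0 < c₁ ∧ 0 < c₂ ∧
      v₁.1 = c₁ • φ₁.realMap y.1 ∧ v₂.1 = c₂ • φ₂.realMap y.1

lemma common_trans {n₁ n₂ n₃ : ICone} {σ₁ : F.obj (op n₁)} {σ₂ : F.obj (op n₂)}
    {σ₃ : F.obj (op n₃)} {v₁ : Orth n₁} {v₂ : Orth n₂} {v₃ : Orth n₃}
    (h : Common σ₁ v₁ σ₂ v₂) (h' : Common σ₂ v₂ σ₃ v₃) : Common σ₁ v₁ σ₃ v₃ := by
  obtain ⟨k, φ₁, φ₂, y, c₁, c₂, e, hc₁, hc₂, h1, h2⟩ := h
  obtain ⟨k', φ₂', φ₃, y', d₂, d₃, e', hd₂, hd₃, h2', h3⟩ := h'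
  obtain ⟨s, hs, hcov⟩ := exists_common_pieces φ₂.toLin φ₂.injective φ₂'.toLin φ₂'.injective
  have hr : 0 < d₂ / c₂ := div_pos hd₂ hc₂
  have heq : rlin φ₂.toLin y.1 = rlin φ₂'.toLin ((d₂ / c₂) • y'.1) := by
    rw [map_smul]
    show φ₂.realMap y.1 = (d₂ / c₂) • φ₂'.realMap y'.1
    rw [div_eq_inv_mul, mul_smul, ← h2', h2, smul_smul, inv_mul_cancel₀ hc₂.ne', one_smul]
  obtain ⟨⟨l, χ, χ'⟩, hl, z, hz, hz'⟩ :=
    hcov y.1 ((d₂ / c₂) • y'.1) y.2.1 (oscale _ hr y').2.1 y.2.2 heq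
  have hχ : χ ≫ φ₂ = χ' ≫ φ₂' := homExt fun w => LinearMap.congr_fun (hs _ hl) w
  refine ⟨l, χ ≫ φ₁, χ' ≫ φ₃, z, c₁, d₃ * (d₂ / c₂)⁻¹, ?_, hc₁, by positivity, ?_, ?_⟩
  · rw [map_comp_apply, e, ← map_comp_apply, hχ, map_comp_apply, e', ← map_comp_apply]
  · dsimp only at hz
    rw [realMap_comp, ← hz, h1]
  · dsimp only at hz'
    rw [realMap_comp, ← hz', realMap_smul, h3, smul_smul, mul_assoc, inv_mul_cancel₀ hr.ne',
      mul_one]

lemma mk_common {p q : Pt F} (h : Relation.EqvGen (Rel F) p q) :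
    Common p.1.2 p.2 q.1.2 q.2 := by
  induction h with
  | rel _ _ h =>
    obtain ⟨φ, ξ, v, w, c, hc, hw⟩ := h
    exact ⟨_, 𝟙 _, φ, v, 1, c, by simp, one_pos, hc, by simp [realMap_id], hw⟩
  | refl p => exact ⟨_, 𝟙 _, 𝟙 _, p.2, 1, 1, rfl, one_pos, one_pos, by simp [realMap_id],
      by simp [realMap_id]⟩
  | symm _ _ _ ih =>
    obtain ⟨k, φ₁, φ₂, y, c₁, c₂, e, hc₁, hc₂, h1, h2⟩ := ih
    exact ⟨k, φ₂, φ₁, y, c₂, c₁, e.symm, hc₂, hc₁, h2, h1⟩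
  | trans _ _ _ _ _ ih ih' => exact common_trans ih ih'

lemma mk_map {φ : k ⟶ n} (ξ : F.obj (op n)) (v : Orth k) (w : Orth n) {c : ℝ} (hc : 0 < c)
    (h : w.1 = c • φ.realMap v.1) : P.mk (F.map φ.op ξ) v = P.mk ξ w :=
  Quot.sound (Rel.glue φ ξ v w c hc h)

lemma mk_scale (ξ : F.obj (op n)) {v w : Orth n} {c : ℝ} (hc : 0 < c) (h : w.1 = c • v.1) :
    P.mk ξ v = P.mk ξ w := by
  have := mk_map (φ := 𝟙 n) ξ v w hc (by rw [realMap_id]; exact h)
  simpa using this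

lemma mk_omap (φ : k ⟶ n) (ξ : F.obj (op n)) (v : Orth k) :
    P.mk (F.map φ.op ξ) v = P.mk ξ (omap φ v) :=
  mk_map ξ v _ one_pos (one_smul _ _).symm

theorem mk_eq_iff {n₁ n₂ : ICone} (σ₁ : F.obj (op n₁)) (σ₂ : F.obj (op n₂)) (v₁ : Orth n₁)
    (v₂ : Orth n₂) : P.mk σ₁ v₁ = P.mk σ₂ v₂ ↔ Common σ₁ v₁ σ₂ v₂ := by
  refine ⟨fun h => mk_common (Quot.eqvGen_exact h), ?_⟩
  rintro ⟨k, φ₁, φ₂, y, c₁, c₂, e, hc₁, hc₂, h1, h2⟩
  rw [← mk_map σ₁ y v₁ hc₁ h1, ← mk_map σ₂ y v₂ hc₂ h2, e]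

lemma exists_rep (x : P F) : ∃ (n : ICone) (ξ : F.obj (op n)) (v : Orth n), x = P.mk ξ v := by
  induction x using Quot.ind with
  | mk p => exact ⟨p.1.1, p.1.2, p.2, rfl⟩

lemma map_mk (f : F ⟶ G) (ξ : F.obj (op n)) (v : Orth n) :
    P.map f (P.mk ξ v) = P.mk (f.app _ ξ) v := rfl

lemma map_comp {H : Fan.{u}} (f : F ⟶ G) (g : G ⟶ H) (x : P F) :
    P.map (f ≫ g) x = P.map g (P.map f x) := by
  obtain ⟨n, ξ, v, rfl⟩ := exists_rep x
  rfl

lemma coneMap_app (σ : F.obj (op n)) (φ : k ⟶ n) :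
    (coneMap σ).app (op k) (ULift.up φ) = F.map φ.op σ := rfl

lemma coneMap_comp (a : F.obj (op n)) (f : F ⟶ G) : coneMap a ≫ f = coneMap (f.app _ a) :=
  uliftYonedaEquiv_symm_comp a f

lemma coneMap_injective {a b : F.obj (op n)} (h : coneMap a = coneMap b) : a = b :=
  uliftYonedaEquiv.symm.injective h

lemma exists_pb {F' : Fan.{u}} (f : F ⟶ G) (g : F' ⟶ G) {a : F.obj (op n)} {b : F'.obj (op n)}
    (h : f.app _ a = g.app _ b) :
    ∃ p : (Limits.pullback f g).obj (op n),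
      (Limits.pullback.fst f g).app _ p = a ∧ (Limits.pullback.snd f g).app _ p = b := by
  let L := Limits.pullback.lift (coneMap a) (coneMap b)
    (by rw [coneMap_comp, coneMap_comp, h])
  have hL : coneMap (uliftYonedaEquiv L) = L := uliftYonedaEquiv.symm_apply_apply L
  refine ⟨uliftYonedaEquiv L, coneMap_injective ?_, coneMap_injective ?_⟩
  · rw [← coneMap_comp, hL]
    exact Limits.pullback.lift_fst _ _ _
  · rw [← coneMap_comp, hL]
    exact Limits.pullback.lift_snd _ _ _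

lemma exists_pb_point {F' : Fan.{u}} (f : F ⟶ G) (g : F' ⟶ G) (x : P F) (x' : P F')
    (h : P.map f x = P.map g x') : ∃ y : P (Limits.pullback f g),
      P.map (Limits.pullback.fst f g) y = x ∧ P.map (Limits.pullback.snd f g) y = x' := by
  obtain ⟨n, ξ, v, rfl⟩ := exists_rep x
  obtain ⟨n', ξ', v', rfl⟩ := exists_rep x'
  obtain ⟨k, φ₁, φ₂, y, c₁, c₂, e, hc₁, hc₂, h1, h2⟩ := (mk_eq_iff _ _ _ _).1 h
  obtain ⟨p, hp1, hp2⟩ := exists_pb f g (a := F.map φ₁.op ξ) (b := F'.map φ₂.op ξ') (by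
    rw [NatTrans.naturality_apply, NatTrans.naturality_apply]
    exact e)
  exact ⟨P.mk p y, by rw [map_mk, hp1, mk_map ξ y v hc₁ h1],
    by rw [map_mk, hp2, mk_map ξ' y v' hc₂ h2]⟩

/-- A finite family of cones covering a bounded base change. -/
lemma exists_cover {ψ : F ⟶ G} {n : ICone} {σ : G.obj (op n)}
    (hb : IsBounded (Limits.pullback ψ (coneMap σ))) :
    ∃ s : Finset (Σ k : ICone, F.obj (op k) × (k ⟶ n)),
      (∀ e ∈ s, ψ.app _ e.2.1 = G.map e.2.2.op σ) ∧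
      ∀ {l : ICone} (b : F.obj (op l)) (χ : l ⟶ n), ψ.app _ b = G.map χ.op σ → ∀ y : Orth l,
        ∃ e ∈ s, ∃ (z : Orth e.1) (c : ℝ), 0 < c ∧ χ.realMap y.1 = c • e.2.2.realMap z.1 ∧
          P.mk b y = P.mk e.2.1 z := by
  classical
  obtain ⟨t, ht⟩ := hb
  refine ⟨t.image fun e => ⟨e.1, (Limits.pullback.fst ψ (coneMap σ)).app _ e.2,
    ((Limits.pullback.snd ψ (coneMap σ)).app _ e.2).down⟩, ?_, ?_⟩
  · intro e he
    obtain ⟨⟨k, p⟩, -, rfl⟩ := Finset.mem_image.1 he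
    exact ConcreteCategory.congr_hom (congr_app (Limits.pullback.condition (f := ψ)
      (g := coneMap σ)) (op k)) p
  · intro l b χ hb y
    obtain ⟨p, hp1, hp2⟩ := exists_pb ψ (coneMap σ) (a := b) (b := ULift.up χ) hb
    obtain ⟨⟨k, q⟩, hq, z, hz⟩ := ht (P.mk p y)
    obtain ⟨m, φ₁, φ₂, w, c₁, c₂, e, hc₁, hc₂, h1, h2⟩ := (mk_eq_iff _ _ _ _).1 hz
    refine ⟨_, Finset.mem_image.2 ⟨⟨k, q⟩, hq, rfl⟩, z, c₂ / c₁, div_pos hc₂ hc₁, ?_, ?_⟩
    · have e' := congrArg ((Limits.pullback.snd ψ (coneMap σ)).app (op m)) e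
      rw [NatTrans.naturality_apply, NatTrans.naturality_apply, hp2] at e'
      have e'' : φ₁ ≫ ((Limits.pullback.snd ψ (coneMap σ)).app _ q).down = φ₂ ≫ χ :=
        congrArg ULift.down e'
      rw [h1, h2, realMap_smul, realMap_smul, ← realMap_comp, ← realMap_comp, e'', smul_smul]
      congr 1
      field_simp
    · rw [← hp1, ← map_mk, ← hz, map_mk]

lemma mem_cell_of_cover {ψ : F ⟶ G} {n : ICone} {σ : G.obj (op n)} {s : Finset _}
    (hs : ∀ e ∈ s, ψ.app _ e.2.1 = G.map e.2.2.op σ)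
    (hcov : ∀ {l : ICone} (b : F.obj (op l)) (χ : l ⟶ n), ψ.app _ b = G.map χ.op σ → ∀ y : Orth l,
      ∃ e ∈ (s : Finset (Σ k : ICone, F.obj (op k) × (k ⟶ n))), ∃ (z : Orth e.1) (c : ℝ), 0 < c ∧
        χ.realMap y.1 = c • e.2.2.realMap z.1 ∧ P.mk b y = P.mk e.2.1 z)
    (v : Orth n) (x : P F) :
    P.map ψ x = P.mk σ v ↔ ∃ e ∈ s, ∃ (z : Orth e.1) (c : ℝ), 0 < c ∧
      v.1 = c • e.2.2.realMap z.1 ∧ x = P.mk e.2.1 z := by
  constructor
  · intro h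
    obtain ⟨n', ξ, w, rfl⟩ := exists_rep x
    obtain ⟨k, φ₁, φ₂, y, c₁, c₂, e, hc₁, hc₂, h1, h2⟩ := (mk_eq_iff _ _ _ _).1 h
    obtain ⟨q, hq, z, c, hc, hz, hz'⟩ :=
      hcov (F.map φ₁.op ξ) φ₂ (by rw [NatTrans.naturality_apply]; exact e) y
    exact ⟨q, hq, z, c₂ * c, mul_pos hc₂ hc, by rw [h2, hz, smul_smul],
      by rw [← mk_map ξ y w hc₁ h1, hz']⟩
  · rintro ⟨e, he, z, c, hc, hv, rfl⟩
    rw [map_mk, hs e he, mk_map σ z v hc hv]

/-! ### Topology -/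

lemma continuous_mk (ξ : F.obj (op n)) : Continuous (P.mk ξ) :=
  continuous_quot_mk.comp (continuous_sigmaMk (σ := fun e : (Σ n : ICone, F.obj (op n)) => Orth e.1)
    (i := ⟨n, ξ⟩))

lemma isClosed_iff_mk (S : Set (P F)) :
    IsClosed S ↔ ∀ (n : ICone) (ξ : F.obj (op n)), IsClosed (P.mk ξ ⁻¹' S) := by
  refine ⟨fun h n ξ => h.preimage (continuous_mk ξ), fun h => ?_⟩
  refine (isQuotientMap_quot_mk (r := Rel F)).isClosed_preimage.1 ?_
  exact isClosed_sigma_iff.2 fun e => h e.1 e.2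

lemma continuous_map (f : F ⟶ G) : Continuous (P.map f) := by
  rw [continuous_iff_isClosed]
  intro S hS
  rw [isClosed_iff_mk]
  exact fun n ξ => hS.preimage (continuous_mk (f.app _ ξ))

/-- Invariance under positive rescaling. -/
def Invariant (S : Set (Orth n)) : Prop :=
  ∀ v w : Orth n, v ∈ S → ∀ c : ℝ, 0 < c → w.1 = c • v.1 → w ∈ S

lemma invariant_preimage (ξ : F.obj (op n)) (Z : Set (P F)) : Invariant (P.mk ξ ⁻¹' Z) :=
  fun v w hv c hc h => by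
    show P.mk ξ w ∈ Z
    rw [← mk_scale ξ hc h]
    exact hv

lemma isClosed_nonneg : IsClosed {v : Fin k.dim → ℝ | ∀ i, 0 ≤ v i} := by
  simpa only [Set.ofPred_forall] using
    isClosed_iInter fun i => isClosed_le (continuous_const (y := (0 : ℝ))) (continuous_apply i)

lemma isClosedMap_omap (φ : k ⟶ n) : IsClosedMap (omap φ) := by
  have hf : Topology.IsClosedEmbedding (rlin φ.toLin) :=
    LinearMap.isClosedEmbedding_of_injective (LinearMap.ker_eq_bot.2 (realMap_injective φ))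
  intro S hS
  obtain ⟨T, hT, rfl⟩ := isClosed_induced_iff.1 hS
  refine isClosed_induced_iff.2 ⟨rlin φ.toLin '' (T ∩ {v | ∀ i, 0 ≤ v i}), hf.isClosedMap _
    (hT.inter isClosed_nonneg), ?_⟩
  ext w
  constructor
  · rintro ⟨v, ⟨hvT, hv⟩, hvw⟩
    have hv0 : v ≠ 0 := fun h => w.2.2 (by rw [← hvw, h, map_zero])
    exact ⟨⟨v, hv, hv0⟩, hvT, Subtype.ext hvw⟩
  · rintro ⟨v, hv, rfl⟩
    exact ⟨v.1, ⟨hv, v.2.1⟩, rfl⟩

lemma isClosed_coneImage (φ : k ⟶ n) {S : Set (Orth k)} (hS : IsClosed S) (hi : Invariant S) :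
    IsClosed {v : Orth n | ∃ y ∈ S, ∃ c : ℝ, 0 < c ∧ v.1 = c • φ.realMap y.1} := by
  have : {v : Orth n | ∃ y ∈ S, ∃ c : ℝ, 0 < c ∧ v.1 = c • φ.realMap y.1} = omap φ '' S := by
    ext v
    constructor
    · rintro ⟨y, hy, c, hc, h⟩
      exact ⟨oscale c hc y, hi y _ hy c hc rfl, Subtype.ext ((realMap_smul φ c y.1).trans h.symm)⟩
    · rintro ⟨y, hy, rfl⟩
      exact ⟨y, hy, 1, one_pos, (one_smul _ _).symm⟩
  rw [this]
  exact isClosedMap_omap φ S hS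

lemma isClosedMap_map {ψ : F ⟶ G} (hψ : IsBoundedMap ψ) : IsClosedMap (P.map ψ) := by
  intro Z hZ
  rw [isClosed_iff_mk]
  intro n σ
  obtain ⟨s, hs, hcov⟩ := exists_cover (hψ n σ)
  have : P.mk σ ⁻¹' (P.map ψ '' Z) = ⋃ e ∈ (s : Set (Σ k : ICone, F.obj (op k) × (k ⟶ n))),
      {v : Orth n | ∃ y ∈ P.mk e.2.1 ⁻¹' Z, ∃ c : ℝ, 0 < c ∧ v.1 = c • e.2.2.realMap y.1} := by
    ext v
    simp only [Set.mem_preimage, Set.mem_image, Set.mem_iUnion₂, Set.mem_setOf_eq,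
      Finset.mem_coe, exists_prop]
    constructor
    · rintro ⟨x, hx, hxv⟩
      obtain ⟨e, he, z, c, hc, h, rfl⟩ := (mem_cell_of_cover hs hcov v x).1 hxv
      exact ⟨e, he, z, hx, c, hc, h⟩
    · rintro ⟨e, he, z, hz, c, hc, h⟩
      exact ⟨_, hz, (mem_cell_of_cover hs hcov v _).2 ⟨e, he, z, c, hc, h, rfl⟩⟩
  rw [this]
  exact s.finite_toSet.isClosed_biUnion fun e _ =>
    isClosed_coneImage _ (hZ.preimage (continuous_mk _)) (invariant_preimage _ Z)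

/-- The ray through a nonzero nonnegative integer vector. -/
def rayHom (m : Fin n.dim → ℤ) (hm : ∀ i, 0 ≤ m i) (hm0 : m ≠ 0) : Fan.one ⟶ n where
  toLin :=
    { toFun := fun w => w 0 • m
      map_add' := fun a b => add_smul _ _ _
      map_smul' := fun c a => mul_smul _ _ _ }
  injective a b h := by
    funext i
    obtain ⟨i, hi⟩ := i
    have hi' : i < 1 := hi
    obtain rfl : i = 0 := by omega
    by_contra hne
    exact hne (smul_left_injective ℤ hm0 h)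
  nonneg w hw j := mul_nonneg (hw 0) (hm j)

lemma isRational_mk_of_int (ξ : F.obj (op n)) (m : Fin n.dim → ℤ) (hm : ∀ i, 0 ≤ m i) (hm0 : m ≠ 0)
    (v : Orth n) (hv : v.1 = castV m) : (P.mk ξ v).IsRational := by
  refine ⟨F.map (rayHom m hm hm0).op ξ, (mk_map ξ _ v one_pos ?_).symm⟩
  rw [one_smul, hv]
  ext j
  show (m j : ℝ) = ∑ i, (((Pi.single i 1 : Fin 1 → ℤ) 0 • m) j : ℝ) * 1
  simp

/-- Rational points are dense in every orthant. -/
lemma exists_int_mem {O : Set (Orth n)} (hO : IsOpen O) (hinv : Invariant O) (hne : O.Nonempty) :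
    ∃ v ∈ O, ∀ {F : Fan.{u}} (ξ : F.obj (op n)), (P.mk ξ v).IsRational := by
  obtain ⟨v, hv⟩ := hne
  obtain ⟨W, hW, rfl⟩ := isOpen_induced_iff.1 hO
  have key : Filter.Tendsto (fun N : ℕ => (fun i => ((⌈v.1 i * N⌉ : ℤ) : ℝ) / N)) Filter.atTop
      (nhds v.1) := by
    rw [tendsto_pi_nhds]
    exact fun i => (tendsto_nat_ceil_mul_div_atTop (v.2.1 i)).comp tendsto_natCast_atTop_atTop
      |>.congr fun N => by
        simp [← natCast_ceil_eq_intCast_ceil (mul_nonneg (v.2.1 i) N.cast_nonneg)]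
  obtain ⟨N, hN, hN1⟩ := ((key.eventually (hW.mem_nhds hv)).and (Filter.eventually_ge_atTop 1)).exists
  let m : Fin n.dim → ℤ := fun i => ⌈v.1 i * N⌉
  have hm : ∀ i, 0 ≤ m i := fun i => Int.ceil_nonneg (mul_nonneg (v.2.1 i) N.cast_nonneg)
  have hN0 : (0 : ℝ) < N := by exact_mod_cast hN1
  have hm0 : m ≠ 0 := by
    obtain ⟨i, hi⟩ := Function.ne_iff.1 v.2.2
    refine Function.ne_iff.2 ⟨i, (Int.ceil_pos.2 (mul_pos ?_ hN0)).ne'⟩
    exact lt_of_le_of_ne (v.2.1 i) (Ne.symm hi)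
  let w : Orth n := ⟨castV m, fun i => by simpa [castV] using hm i, by simpa using hm0⟩
  refine ⟨w, ?_, fun ξ => isRational_mk_of_int ξ m hm hm0 w rfl⟩
  refine hinv ⟨fun i => (⌈v.1 i * N⌉ : ℝ) / N, fun i => div_nonneg (by simpa using hm i) hN0.le,
    fun h => hm0 (funext fun i => ?_)⟩ w hN N hN0 ?_
  · have : (m i : ℝ) / N = 0 := congrFun h i
    exact_mod_cast (div_eq_zero_iff.1 this).resolve_right hN0.ne'
  · ext i
    simp [w, m, castV, mul_div_cancel₀ _ hN0.ne']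

lemma exists_rat_mem {O : Set (Orth n)} (hO : IsOpen O) (hinv : Invariant O) (hne : O.Nonempty)
    (ξ : F.obj (op n)) : ∃ v ∈ O, (P.mk ξ v).IsRational :=
  let ⟨v, hv, h⟩ := exists_int_mem hO hinv hne
  ⟨v, hv, h ξ⟩

end Groth.Agent.FanLib
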