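import Groth.Agent.FanLib.Basic
import Groth.Prelude.Def_W4c6instabfans3FanCvx
import Mathlib.Topology.Instances.Rat

/-!
Quasi-separated fans: closed simplices, lifting of sequences, rational points of realizable sets.
-/

set_option autoImplicit false

universe u

open CategoryTheory Opposite Instab Instab.Fan Filter Topology

namespace Groth.Agent.FanLib

variable {F : Fan.{u}} {n m : ICone}

lemma isClosed_image (hF : F.IsQuasiSeparated) (ξ : F.obj (op n)) {S : Set (Orth n)}
    (hS : IsClosed S) (hinv : Invariant S) : IsClosed (P.mk ξ '' S) := by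
  rw [isClosed_iff_mk]
  intro m σ
  obtain ⟨s, hs, hcov⟩ := exists_cover (ψ := coneMap ξ) (σ := σ) (hF n m ξ σ)
  have : P.mk σ ⁻¹' (P.mk ξ '' S) =
      ⋃ e ∈ (s : Set (Σ k : ICone, (uliftYoneda.{u}.obj n).obj (op k) × (k ⟶ m))), {v : Orth m |
        ∃ y ∈ omap e.2.1.down ⁻¹' S, ∃ c : ℝ, 0 < c ∧ v.1 = c • e.2.2.realMap y.1} := by
    ext v
    constructor
    · rintro ⟨w, hw, hwv⟩
      have h' : P.map (coneMap ξ) (P.mk (F := uliftYoneda.{u}.obj n) (ULift.up (𝟙 n)) w) =
          P.mk σ v := by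
        refine Eq.trans ?_ hwv
        show P.mk ((coneMap ξ).app _ (ULift.up (𝟙 n))) w = _
        exact congrArg (P.mk · w) ((coneMap_app ξ (𝟙 n)).trans (by simp))
      obtain ⟨e, he, z, c, hc, h, hx⟩ := (mem_cell_of_cover hs hcov v _).1 h'
      obtain ⟨k, χ₁, χ₂, t, d₁, d₂, e', hd₁, hd₂, g1, g2⟩ := (mk_eq_iff _ _ _ _).1 hx
      have e'' : χ₁ ≫ 𝟙 n = χ₂ ≫ e.2.1.down := congrArg ULift.down e'
      rw [Category.comp_id] at e''
      refine Set.mem_biUnion he ⟨z, hinv w _ hw (d₂ / d₁) (by positivity) ?_, c, hc, h⟩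
      show e.2.1.down.realMap z.1 = _
      rw [g2, g1, realMap_smul, ← realMap_comp, ← e'', smul_smul, div_mul_cancel₀ _ hd₁.ne']
    · intro hv
      obtain ⟨e, he, y, hy, c, hc, h⟩ := Set.mem_iUnion₂.1 hv
      refine ⟨_, hy, ?_⟩
      rw [← mk_omap, ← mk_map σ y v hc h]
      exact congrArg (P.mk · y) (hs e he)
  rw [this]
  exact s.finite_toSet.isClosed_biUnion fun e _ => isClosed_coneImage _
    (hS.preimage (by
      refine Continuous.subtype_mk ?_ _
      exact (continuous_rlin _).comp continuous_subtype_val))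
    (fun v w hv c hc h => hinv _ _ hv c hc (by
      show e.2.1.down.realMap w.1 = _
      rw [h, realMap_smul]
      rfl))

/-- The proportionality relation is closed. -/
lemma isClosed_ray (v : Orth n) : IsClosed {w : Orth n | ∃ c : ℝ, 0 < c ∧ w.1 = c • v.1} := by
  have hC : IsClosed {x : Fin n.dim → ℝ | ∀ i j, x i * v.1 j = x j * v.1 i} := by
    simp only [Set.ofPred_forall]
    exact isClosed_iInter fun i => isClosed_iInter fun j => isClosed_eq
      (by fun_prop) (by fun_prop)
  suffices e : {w : Orth n | ∃ c : ℝ, 0 < c ∧ w.1 = c • v.1} =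
      (fun w : Orth n => w.1) ⁻¹' {x : Fin n.dim → ℝ | ∀ i j, x i * v.1 j = x j * v.1 i} from
    e ▸ hC.preimage continuous_subtype_val
  ext w
  constructor
  · rintro ⟨c, -, h⟩ i j
    show w.1 i * v.1 j = w.1 j * v.1 i
    rw [h]
    simp
    ring
  · intro h
    obtain ⟨j, hj⟩ := Function.ne_iff.1 v.2.2
    have hj' : 0 < v.1 j := lt_of_le_of_ne (v.2.1 j) (Ne.symm hj)
    have e : w.1 = (w.1 j / v.1 j) • v.1 := funext fun i => by
      have := h i j
      simp only [Pi.smul_apply, smul_eq_mul]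
      field_simp
      linarith
    refine ⟨_, ?_, e⟩
    refine div_pos (lt_of_le_of_ne (w.2.1 j) fun h0 => w.2.2 ?_) hj'
    rw [e, ← h0, zero_div, zero_smul]

lemma isClosed_point (hF : F.IsQuasiSeparated) (x : P F) : IsClosed ({x} : Set (P F)) := by
  obtain ⟨n, ξ, v, rfl⟩ := exists_rep x
  convert isClosed_image hF ξ (isClosed_ray v) (fun a b ⟨c, hc, h⟩ d hd h' =>
    ⟨d * c, mul_pos hd hc, by rw [h', h, smul_smul]⟩) using 1
  ext y
  constructor
  · rintro rfl
    exact ⟨v, ⟨1, one_pos, (one_smul _ _).symm⟩, rfl⟩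
  · rintro ⟨w, ⟨c, hc, h⟩, rfl⟩
    exact (mk_scale ξ hc h).symm

/-- The total of the coordinates. -/
noncomputable def total (v : Orth n) : ℝ := ∑ i, v.1 i

lemma total_pos (v : Orth n) : 0 < total v := by
  obtain ⟨i, hi⟩ := Function.ne_iff.1 v.2.2
  exact Finset.sum_pos' (fun i _ => v.2.1 i)
    ⟨i, Finset.mem_univ _, lt_of_le_of_ne (v.2.1 i) (Ne.symm hi)⟩

/-- Normalisation to total one. -/
noncomputable def normO (v : Orth n) : Orth n := oscale (total v)⁻¹ (inv_pos.2 (total_pos v)) v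

lemma continuous_normO : Continuous (normO (n := n)) := by
  refine Continuous.subtype_mk ?_ _
  exact (Continuous.inv₀ (continuous_finsetSum _ fun i _ =>
    (continuous_apply i).comp continuous_subtype_val) fun v => (total_pos v).ne').smul
      continuous_subtype_val

lemma mk_normO (ξ : F.obj (op n)) (v : Orth n) : P.mk ξ (normO v) = P.mk ξ v :=
  (mk_scale ξ (inv_pos.2 (total_pos v)) rfl).symm

lemma total_normO (v : Orth n) : total (normO v) = 1 := by
  show ∑ i, (total v)⁻¹ * v.1 i = 1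
  rw [← Finset.mul_sum]
  exact inv_mul_cancel₀ (total_pos v).ne'

lemma normO_eq_self {v : Orth n} (h : total v = 1) : normO v = v :=
  Subtype.ext (by show (total v)⁻¹ • v.1 = v.1; rw [h, inv_one, one_smul])

lemma normO_scale {v w : Orth n} {c : ℝ} (hc : 0 < c) (h : w.1 = c • v.1) : normO w = normO v := by
  have ht : total w = c * total v := by
    simp only [total, h, Pi.smul_apply, smul_eq_mul, Finset.mul_sum]
  refine Subtype.ext ?_
  show (total w)⁻¹ • w.1 = (total v)⁻¹ • v.1
  rw [ht, h, smul_smul, mul_inv, mul_right_comm, inv_mul_cancel₀ hc.ne', one_mul]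

lemma isCompact_slice : IsCompact {v : Orth n | total v = 1} := by
  refine (Topology.IsEmbedding.subtypeVal.isCompact_iff (s := {v : Orth n | total v = 1})).2 ?_
  have : (Subtype.val : Orth n → _) '' {v : Orth n | total v = 1} = stdSimplex ℝ (Fin n.dim) := by
    ext x
    constructor
    · rintro ⟨v, hv, rfl⟩
      exact ⟨v.2.1, hv⟩
    · rintro ⟨h0, h1⟩
      exact ⟨⟨x, h0, fun h => by simp [h] at h1⟩, h1, rfl⟩
  exact this ▸ isCompact_stdSimplex ℝ _

/-- A sequence with a limit, avoiding it, has a subsequence in one simplex. -/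
lemma exists_cell_frequently (hF : F.IsQuasiSeparated) (x : ℕ → P F) (x₀ : P F)
    (hx : Tendsto x atTop (𝓝 x₀)) (hne : ∀ᶠ j in atTop, x j ≠ x₀) :
    ∃ (n : ICone) (σ : F.obj (op n)), ∃ᶠ j in atTop, x j ∈ P.cell σ := by
  by_contra hcon
  simp only [not_exists, not_frequently] at hcon
  obtain ⟨N, hN⟩ := eventually_atTop.1 hne
  have hA : IsClosed (x '' Set.Ici N) := by
    rw [isClosed_iff_mk]
    intro n ξ
    obtain ⟨M, hM⟩ := eventually_atTop.1 (hcon n ξ)
    have : P.mk ξ ⁻¹' (x '' Set.Ici N) = P.mk ξ ⁻¹' (x '' (Set.Ico N M)) := by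
      ext v
      constructor
      · rintro ⟨j, hj, h⟩
        exact ⟨j, ⟨hj, not_le.1 fun hM' => hM j hM' ⟨v, h.symm⟩⟩, h⟩
      · rintro ⟨j, hj, h⟩
        exact ⟨j, hj.1, h⟩
    rw [this]
    refine IsClosed.preimage (continuous_mk ξ) ?_
    rw [← Set.biUnion_of_singleton (x '' Set.Ico N M)]
    exact ((Set.finite_Ico N M).image x).isClosed_biUnion fun y _ => isClosed_point hF y
  obtain ⟨j, hj, hj'⟩ := hA.mem_of_tendsto hx
    (eventually_atTop.2 ⟨N, fun j hj => ⟨j, hj, rfl⟩⟩)
  exact hN j hj hj'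

/-- In a realizable set every nonempty relatively open subset contains a rational point. -/
lemma exists_rat_of_isRealizable {U : Set (P F)} (hU : IsRealizable U) {O : Set U} (hO : IsOpen O)
    {y : U} (hy : y ∈ O) : ∃ x : U, x ∈ O ∧ (x : P F).IsRational := by
  obtain ⟨S, rfl⟩ := hU
  obtain ⟨y', hy'⟩ := y.2
  obtain ⟨n, a, v, rfl⟩ := exists_rep y'
  have hmem : ∀ w : Orth n, P.mk (S.ι.app _ a) w ∈ Set.range (P.map S.ι) := fun w => ⟨P.mk a w, rfl⟩
  let g : Orth n → Set.range (P.map S.ι) := fun w => ⟨P.mk (S.ι.app _ a) w, hmem w⟩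
  have hinv : Invariant (g ⁻¹' O) := fun p q hp c hc h => by
    have : g q = g p := Subtype.ext (mk_scale _ hc h).symm
    show g q ∈ O
    rw [this]
    exact hp
  have hv : g v ∈ O := by
    have : g v = y := Subtype.ext hy'
    rw [this]
    exact hy
  obtain ⟨w, hw, hr⟩ := exists_rat_mem (hO.preimage ((continuous_mk _).subtype_mk hmem)) hinv
    ⟨v, hv⟩ (S.ι.app _ a)
  exact ⟨g w, hw, hr⟩

lemma basis_apply (i j : Fin 2) :
    (Orth.basis Fan.two i).1 j = if j = i then (1 : ℝ) else 0 := rfl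

lemma basis_zero_zero : (Orth.basis Fan.two 0).1 0 = 1 := (basis_apply 0 0).trans (if_pos rfl)
lemma basis_one_one : (Orth.basis Fan.two 1).1 1 = 1 := (basis_apply 1 1).trans (if_pos rfl)
lemma basis_one_zero : (Orth.basis Fan.two 1).1 0 = 0 := (basis_apply 1 0).trans (if_neg (by decide))
lemma basis_zero_one : (Orth.basis Fan.two 0).1 1 = 0 := (basis_apply 0 1).trans (if_neg (by decide))

/-- The point `(1, t)` of the two dimensional orthant. -/
def seg (t : ℝ) (ht : 0 ≤ t) : Orth Fan.two :=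
  ⟨(1 : ℝ) • (Orth.basis Fan.two 0).1 + t • (Orth.basis Fan.two 1).1,
    fun i => add_nonneg (mul_nonneg zero_le_one ((Orth.basis Fan.two 0).2.1 i))
      (mul_nonneg ht ((Orth.basis Fan.two 1).2.1 i)),
    fun h => by
      have := congrFun h 0
      simp only [Pi.add_apply, Pi.smul_apply, smul_eq_mul, Pi.zero_apply] at this
      rw [basis_zero_zero, basis_one_zero] at this
      norm_num at this⟩

lemma seg_eq {t : ℝ} (ht : 0 ≤ t) :
    (seg t ht).1 = (1 : ℝ) • (Orth.basis Fan.two 0).1 + t • (Orth.basis Fan.two 1).1 := rfl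

lemma basis_not_prop : ¬ ∃ c : ℝ, (Orth.basis Fan.two 1).1 = c • (Orth.basis Fan.two 0).1 := by
  rintro ⟨c, hc⟩
  have := congrFun hc 1
  rw [Pi.smul_apply, basis_one_one, basis_zero_one, smul_eq_mul, mul_zero] at this
  exact one_ne_zero this

end Groth.Agent.FanLib
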